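import Cfsg.Agent.H209.Five.Pr

/-!
# Subgroups of index 5: the homomorphism to `Perm (Fin 5)`
-/

set_option autoImplicit false

open Pointwise

namespace Cfsg.Agent.H209.Five

open Cfsg.Agent.H399

variable {G : Type*} [Group G]

/-- The hom package. -/
structure Hom5 (A C : Subgroup G) (φ : ↥A →* Equiv.Perm (Fin 5)) : Prop where
  stab : ∀ a : A, (a : G) ∈ C ↔ φ a 0 = 0
  ker : ∀ a : A, (a : G) ∈ core A C ↔ φ a = 1
  trans : ∀ i, ∃ a : A, φ a 0 = i

theorem exists_hom5 [Finite G] {A C : Subgroup G} (h5 : C.relIndex A = 5) :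
    ∃ φ : ↥A →* Equiv.Perm (Fin 5), Hom5 A C φ := by
  classical
  set C' : Subgroup A := C.subgroupOf A with hC'
  have hcard : Nat.card (A ⧸ C') = 5 := h5
  have hfin : Fintype (A ⧸ C') := Fintype.ofFinite _
  have e0 : (A ⧸ C') ≃ Fin 5 := Finite.equivFinOfCardEq hcard
  set e : (A ⧸ C') ≃ Fin 5 := e0.trans (Equiv.swap (e0 ((1 : A) : A ⧸ C')) 0) with he
  have he1 : e ((1 : A) : A ⧸ C') = 0 := by simp [he]
  set φ : ↥A →* Equiv.Perm (Fin 5) := (e.permCongrHom.toMonoidHom).comp (MulAction.toPermHom A (A ⧸ C')) with hφ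
  have hφa : ∀ (a : A) (i : Fin 5), φ a i = e (a • e.symm i) := by
    intro a i
    rfl
  have hsymm : e.symm 0 = ((1 : A) : A ⧸ C') := by rw [Equiv.symm_apply_eq, he1]
  have hstab : ∀ a : A, (a : G) ∈ C ↔ φ a 0 = 0 := by
    intro a
    have h1 : φ a 0 = 0 ↔ e (a • e.symm 0) = e ((1 : A) : A ⧸ C') := by rw [hφa, he1]
    rw [h1, e.apply_eq_iff_eq, hsymm, MulAction.Quotient.smul_coe, smul_eq_mul, mul_one, QuotientGroup.eq, mul_one,
      inv_mem_iff]
    rfl
  have hfix : ∀ (a b : A), a • ((b : A) : A ⧸ C') = ((b : A) : A ⧸ C') ↔ ((b⁻¹ * a * b : A) : G) ∈ C := by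
    intro a b
    rw [MulAction.Quotient.smul_coe, smul_eq_mul, eq_comm, QuotientGroup.eq, ← mul_assoc]
    rfl
  have hker : ∀ a : A, (a : G) ∈ core A C ↔ φ a = 1 := by
    intro a
    rw [mem_core]
    constructor
    · intro h
      ext i
      rw [hφa, Equiv.Perm.one_apply]
      congr 1
      have h1 : a • e.symm i = e.symm i := by
        obtain ⟨b, hb⟩ := QuotientGroup.mk_surjective (e.symm i)
        rw [← hb, hfix]
        have := h (b : G)⁻¹ (A.inv_mem b.2)
        simpa using this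
      rw [h1, e.apply_symm_apply]
    · intro h b hb
      have h1 := congrArg (fun σ => σ (e (((⟨b, hb⟩ : A)⁻¹ : A) : A ⧸ C'))) h
      simp only [hφa, Equiv.symm_apply_apply, Equiv.Perm.one_apply, e.apply_eq_iff_eq] at h1
      rw [hfix] at h1
      simpa using h1
  refine ⟨φ, hstab, hker, ?_⟩
  intro i
  obtain ⟨b, hb⟩ := QuotientGroup.mk_surjective (e.symm i)
  refine ⟨b, ?_⟩
  rw [hφa, hsymm, MulAction.Quotient.smul_coe, smul_eq_mul, mul_one]
  have h1 := congrArg e hb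
  rw [e.apply_symm_apply] at h1
  exact h1

section

variable {A C : Subgroup G} {φ : ↥A →* Equiv.Perm (Fin 5)}

theorem Hom5.card_range (h : Hom5 A C φ) : Nat.card φ.range = (core A C).relIndex A := by
  rw [← Subgroup.index_ker]
  congr 1
  ext a
  rw [MonoidHom.mem_ker, ← h.ker a]
  rfl

theorem Hom5.core_eq (h : Hom5 A C φ) (hCA : C ≤ A) : core A C = φ.ker.map A.subtype := by
  ext x
  rw [Subgroup.mem_map]
  constructor
  · intro hx
    exact ⟨⟨x, hCA (core_le A C hx)⟩, (h.ker ⟨x, _⟩).1 hx, rfl⟩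
  · rintro ⟨a, ha, rfl⟩
    exact (h.ker a).2 ha

theorem Hom5.relIndex_core_eq (h : Hom5 A C φ) {N : Subgroup G} (hN : N ≤ A) :
    (core A C).relIndex N = Nat.card ((N.subgroupOf A).map φ) := by
  rw [← Subgroup.relIndex_ker, ← Subgroup.relIndex_subgroupOf hN]
  congr 1
  ext a
  rw [MonoidHom.mem_ker, ← h.ker a]
  rfl

theorem card_perm5 : Nat.card (Equiv.Perm (Fin 5)) = 120 := by
  rw [Nat.card_perm, Nat.card_fin]
  rfl

theorem Hom5.relIndex_dvd (h : Hom5 A C φ) : (core A C).relIndex A ∣ 120 := by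
  rw [← h.card_range, ← card_perm5]
  exact Subgroup.card_subgroup_dvd_card _

theorem Hom5.five_dvd (h5 : C.relIndex A = 5) (hCA : C ≤ A) : 5 ∣ (core A C).relIndex A := by
  rw [← Subgroup.relIndex_mul_relIndex _ _ _ (core_le A C) hCA, h5]
  exact dvd_mul_left _ _

theorem Hom5.trans' (h : Hom5 A C φ) (i j : Fin 5) : ∃ a : A, φ a i = j := by
  obtain ⟨a, ha⟩ := h.trans i
  obtain ⟨b, hb⟩ := h.trans j
  refine ⟨b * a⁻¹, ?_⟩
  rw [map_mul, map_inv, Equiv.Perm.mul_apply, ← ha, ← hb]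
  simp

theorem three_cycle_key : ∀ σ : Equiv.Perm (Fin 5), σ ^ 3 = 1 → σ ≠ 1 → σ.support.card = 3 := by decide +kernel

/-- If 3 divides the order of the image, the image contains the alternating group. -/
theorem Hom5.alt (h : Hom5 A C φ) (h3 : 3 ∣ (core A C).relIndex A) :
    alternatingGroup (Fin 5) ≤ φ.range := by
  classical
  rw [← h.card_range] at h3
  have : Fact (Nat.Prime 3) := ⟨Nat.prime_three⟩
  obtain ⟨σ, hσ⟩ := exists_prime_orderOf_dvd_card' 3 h3
  have h1 : (σ : Equiv.Perm (Fin 5)) ^ 3 = 1 := by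
    have := pow_orderOf_eq_one σ
    rw [hσ] at this
    exact congrArg Subtype.val this
  have h2 : (σ : Equiv.Perm (Fin 5)) ≠ 1 := by
    intro hc
    have : σ = 1 := Subtype.ext hc
    rw [this, orderOf_one] at hσ
    omega
  have h4 : (σ : Equiv.Perm (Fin 5)).IsThreeCycle := card_support_eq_three_iff.1 (three_cycle_key _ h1 h2)
  have h5 : MulAction.IsPretransitive φ.range (Fin 5) := by
    constructor
    intro i j
    obtain ⟨a, ha⟩ := h.trans' i j
    exact ⟨⟨φ a, a, rfl⟩, ha⟩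
  have h6 : MulAction.IsPreprimitive φ.range (Fin 5) := by
    apply MulAction.IsPreprimitive.of_prime_card
    rw [Nat.card_fin]
    norm_num
  exact Equiv.Perm.alternatingGroup_le_of_isPreprimitive_of_isThreeCycle_mem h6 h4 σ.2

theorem Hom5.exists_alt (h : Hom5 A C φ) (h3 : 3 ∣ (core A C).relIndex A) (σ : Equiv.Perm (Fin 5))
    (hσ : Equiv.Perm.sign σ = 1) : ∃ a, ∃ ha : a ∈ A, φ ⟨a, ha⟩ = σ := by
  obtain ⟨a, ha⟩ := h.alt h3 (Equiv.Perm.mem_alternatingGroup.2 hσ)
  exact ⟨a, a.2, ha⟩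

end

/-- The nonsolvable case: both local actions contain `A₅`; `g` normalises `A ∩ B` and maps `A` to `B`. -/
structure NS (A B : Subgroup G) (g : G) : Prop where
  pr : Pr5 A B
  hA : 3 ∣ (core A (A ⊓ B)).relIndex A
  hB : 3 ∣ (core B (B ⊓ A)).relIndex B
  gA : cj g A = B
  gD : cj g (A ⊓ B) = A ⊓ B

end Cfsg.Agent.H209.Five
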