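import Cfsg.Agent.H209.Five.NonSolvD
import Cfsg.Agent.H973.Five.Solvable
import Cfsg.Agent.H161.Five.Case
import Cfsg.Agent.H55.Five.PushEA
import Cfsg.Agent.H604.Five.NatFive
import Cfsg.Agent.H647.Five.PushUp
import Cfsg.Agent.H647.Five.CaseD
import Cfsg.Agent.H242.Five.E960
import Cfsg.Agent.H595.Five.NineSixty
import Cfsg.Agent.H595.Five.ENineteenFinal
import Cfsg.Agent.H302.St.StepA

/-!
# S3568: primitive groups with a suborbit of length 5, assembly
-/

set_option autoImplicit false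

open Pointwise

namespace Cfsg.Agent.H209.Five

open Cfsg.Agent.H399

universe u

section

variable {G : Type u} [Group G] [Finite G] {A B : Subgroup G} {g : G}

theorem e960_final : H647.Five.E960.{u} := by
  intro G _ _ Q₁ Q₂ hq g hg₁ hg₂ hN hD htr
  exact H242.Five.e960_of hq g hg₁ hg₂ hN hD htr
    (fun τ u h P hP hD' => H595.Five.e960i h P hP hN hD' htr)
    (fun τ v z h P hP hD' => H302.St.stepA960 h P hP hD')

theorem e1920_final : H647.Five.E1920.{u} := by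
  intro G _ _ Q₁ Q₂ hq g hg₁ hg₂ hN hD hna htr
  exact H595.Five.e1920 hq g hg₁ hg₂ hN hD hna htr

theorem case_d_final (h : Nat5 A B g 4) (h' : Nat5 B A g⁻¹ 4) : Nat.card A = 2880 ∨ Nat.card A = 5760 :=
  H647.Five.case_d_of e960_final e1920_final h h'

theorem main_nat5 (case_e : ∀ {A B : Subgroup G} {g : G}, Nat5 A B g 16 → Nat5 B A g⁻¹ 16 → False)
    (h : Push A B g) (h' : Push B A g⁻¹) : Nat.card A = 2880 ∨ Nat.card A = 5760 := by
  have hinv : (g⁻¹)⁻¹ = g := inv_inv g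
  obtain ⟨hc₁, hs₁, hsup, hi₁⟩ := push_ea h h'
  obtain ⟨hc₂, hs₂, hsup', hi₂⟩ := push_ea h' (by rw [hinv]; exact h)
  have hi₂' : (Op 2 A ⊓ Op 2 B).relIndex (Op 2 B) = 4 := by rwa [inf_comm]
  have hi₁' : (Op 2 B ⊓ Op 2 A).relIndex (Op 2 A) = 4 := by rwa [inf_comm]
  obtain ⟨m, hm⟩ := H604.Five.push_nat5 h h' hc₁ hs₁ hc₂ hs₂ hsup hi₁ hi₂'
  obtain ⟨m', hm'⟩ := H604.Five.push_nat5 h' (by rw [hinv]; exact h) hc₂ hs₂ hc₁ hs₁ hsup' hi₂ hi₁'
  have h1 : m = m' := by
    rw [← hm.pair.inf, ← hm'.pair.inf, inf_comm]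
  subst h1
  rcases hm.hm with rfl | rfl
  · exact case_d_final hm hm'
  · exact (case_e hm hm').elim

theorem main_pr5 (case_e : ∀ {A B : Subgroup G} {g : G}, Nat5 A B g 16 → Nat5 B A g⁻¹ 16 → False) (h : Pr5 A B) :
    Nat.card A ∈ ({5, 10, 20, 40, 60, 120, 1440, 2880, 5760} : Set ℕ) := by
  simp only [Set.mem_insert_iff, Set.mem_singleton_iff]
  by_cases hA : 3 ∣ (H399.core A (A ⊓ B)).relIndex A
  · obtain ⟨g, hg⟩ := exists_NS h hA
    by_cases hc : A ⊓ Subgroup.centralizer (Op 2 A : Set G) ≤ H399.core A (A ⊓ B)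
    · have hc' : B ⊓ Subgroup.centralizer (Op 2 B : Set G) ≤ H399.core B (B ⊓ A) := hg.symm.cent_of hc
      have := main_nat5 case_e (H647.Five.pushup (hg.pre hc)) (H647.Five.pushup (hg.symm.pre hc'))
      omega
    · have := H161.Five.case_one hg (hg.case_one hc)
      omega
  · have hB : ¬ 3 ∣ (H399.core B (B ⊓ A)).relIndex B := fun hB => hA (not_mixed h.symm hB)
    have := H973.Five.solvable_case h hA hB
    omega

end

end Cfsg.Agent.H209.Five
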