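import Cfsg.Agent.H209.Five.Push

/-!
# The nonsolvable case: from `NS` to `Pre`
-/

set_option autoImplicit false
set_option linter.unusedSectionVars false

open Pointwise

namespace Cfsg.Agent.H209.Five

open Cfsg.Agent.H399

variable {G : Type*} [Group G]

/-! ### permutations of five points -/

theorem perm_three_key : ∀ σ : Equiv.Perm (Fin 5), σ 0 = 0 → σ ^ 3 = 1 →
    (σ⁻¹ * (v1 * σ * v1⁻¹)) ^ 3 = 1 → (σ⁻¹ * (v2 * σ * v2⁻¹)) ^ 3 = 1 → σ = 1 := by decide +kernel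

theorem perm_two_key : ∀ σ : Equiv.Perm (Fin 5), σ 0 = 0 → σ ^ 8 = 1 →
    (∀ τ : Equiv.Perm (Fin 5), τ 0 = 0 → Equiv.Perm.sign τ = 1 → (σ * (τ * σ * τ⁻¹)) ^ 8 = 1) →
    (σ = 1 ∨ σ = v1 ∨ σ = v2 ∨ σ = v3) := by decide +kernel

theorem v_conj_key : ∀ v w : Equiv.Perm (Fin 5), (v = v1 ∨ v = v2 ∨ v = v3) → (w = v1 ∨ w = v2 ∨ w = v3) →
    ∃ τ : Equiv.Perm (Fin 5), τ 0 = 0 ∧ Equiv.Perm.sign τ = 1 ∧ τ * v * τ⁻¹ = w := by
  have key : ∀ v ∈ [v1, v2, v3], ∀ w ∈ [v1, v2, v3],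
      ∃ τ : Equiv.Perm (Fin 5), τ 0 = 0 ∧ Equiv.Perm.sign τ = 1 ∧ τ * v * τ⁻¹ = w := by decide +kernel
  intro v w hv hw
  exact key v (by simpa using hv) w (by simpa using hw)

theorem perm_pow_120 (σ : Equiv.Perm (Fin 5)) : σ ^ 120 = 1 := by
  rw [← card_perm5]
  exact pow_card_eq_one'

theorem perm_pow_three {σ : Equiv.Perm (Fin 5)} {k : ℕ} (h : σ ^ 3 ^ k = 1) : σ ^ 3 = 1 := by
  have h1 : σ ^ Nat.gcd (3 ^ k) 120 = 1 := pow_gcd_eq_one.2 ⟨h, perm_pow_120 σ⟩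
  have h2 : Nat.gcd (3 ^ k) 120 ∣ 3 := by
    have h3 : Nat.Coprime (Nat.gcd (3 ^ k) 120) 40 :=
      (Nat.Coprime.pow_left k (by norm_num : Nat.Coprime 3 40)).coprime_dvd_left (Nat.gcd_dvd_left _ _)
    have h4 : Nat.gcd (3 ^ k) 120 ∣ 40 * 3 := Nat.gcd_dvd_right _ _
    exact h3.dvd_of_dvd_mul_left h4
  obtain ⟨m, hm⟩ := h2
  rw [hm, pow_mul, h1, one_pow]

theorem perm_pow_two {σ : Equiv.Perm (Fin 5)} {k : ℕ} (h : σ ^ 2 ^ k = 1) : σ ^ 8 = 1 := by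
  have h1 : σ ^ Nat.gcd (2 ^ k) 120 = 1 := pow_gcd_eq_one.2 ⟨h, perm_pow_120 σ⟩
  have h2 : Nat.gcd (2 ^ k) 120 ∣ 8 := by
    have h3 : Nat.Coprime (Nat.gcd (2 ^ k) 120) 15 :=
      (Nat.Coprime.pow_left k (by norm_num : Nat.Coprime 2 15)).coprime_dvd_left (Nat.gcd_dvd_left _ _)
    have h4 : Nat.gcd (2 ^ k) 120 ∣ 15 * 8 := Nat.gcd_dvd_right _ _
    exact h3.dvd_of_dvd_mul_left h4
  obtain ⟨m, hm⟩ := h2
  rw [hm, pow_mul, h1, one_pow]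

theorem map_pow_of_isPGroup {p : ℕ} {A N : Subgroup G} (φ : ↥A →* Equiv.Perm (Fin 5)) (hN : IsPGroup p N) {n : A}
    (hn : (n : G) ∈ N) : ∃ k : ℕ, φ n ^ p ^ k = 1 := by
  obtain ⟨k, hk⟩ := hN ⟨n, hn⟩
  refine ⟨k, ?_⟩
  rw [← map_pow]
  have h1 : (n : G) ^ p ^ k = 1 := by
    have h2 := congrArg Subtype.val hk
    simpa using h2
  have : n ^ p ^ k = 1 := Subtype.ext (by simpa using h1)
  rw [this, map_one]

section

variable {A D : Subgroup G} {φ : ↥A →* Equiv.Perm (Fin 5)}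

/-- the elements of `D` realise all even permutations fixing 0 -/
theorem Hom5.exists_stab (h : Hom5 A D φ) (hA : HasAlt φ A) {τ : Equiv.Perm (Fin 5)} (h0 : τ 0 = 0)
    (h1 : Equiv.Perm.sign τ = 1) : ∃ d : A, (d : G) ∈ D ∧ φ d = τ := by
  obtain ⟨d, -, h2⟩ := hA τ h1
  exact ⟨d, (h.stab d).2 (by rw [h2, h0]), h2⟩

theorem Hom5.three_le (h : Hom5 A D φ) (hA : HasAlt φ A) (hDA : D ≤ A) {N : Subgroup G} (hN : N ≤ D) (hDN : D ≤ Nm N)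
    (h3 : IsPGroup 3 N) : N ≤ H399.core A D := by
  intro x hx
  rw [h.ker ⟨x, hDA (hN hx)⟩]
  set n : A := ⟨x, hDA (hN hx)⟩ with hn
  have key : ∀ τ : Equiv.Perm (Fin 5), τ 0 = 0 → Equiv.Perm.sign τ = 1 → ((φ n)⁻¹ * (τ * φ n * τ⁻¹)) ^ 3 = 1 := by
    intro τ h0 h1
    obtain ⟨d, hd, h2⟩ := h.exists_stab hA h0 h1
    have h4 : ((n⁻¹ * (d * n * d⁻¹) : A) : G) ∈ N := N.mul_mem (N.inv_mem hx) (le_Nm.1 hDN d hd x hx)
    obtain ⟨k, hk⟩ := map_pow_of_isPGroup φ h3 h4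
    have h5 := perm_pow_three hk
    rw [← h2]
    simpa using h5
  obtain ⟨k, hk⟩ := map_pow_of_isPGroup φ h3 (n := n) hx
  exact perm_three_key _ ((h.stab n).1 (hN hx)) (perm_pow_three hk) (key v1 (by decide) (by decide))
    (key v2 (by decide) (by decide))

theorem Hom5.two_mem (h : Hom5 A D φ) (hA : HasAlt φ A) {N : Subgroup G} (hN : N ≤ D) (hDN : D ≤ Nm N)
    (h2 : IsPGroup 2 N) {n : A} (hn : (n : G) ∈ N) : φ n = 1 ∨ φ n = v1 ∨ φ n = v2 ∨ φ n = v3 := by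
  obtain ⟨k, hk⟩ := map_pow_of_isPGroup φ h2 (n := n) hn
  refine perm_two_key _ ((h.stab n).1 (hN hn)) (perm_pow_two hk) ?_
  intro τ h0 h1
  obtain ⟨d, hd, h3⟩ := h.exists_stab hA h0 h1
  have h4 : ((n * (d * n * d⁻¹) : A) : G) ∈ N := N.mul_mem hn (le_Nm.1 hDN d hd n hn)
  obtain ⟨k, hk⟩ := map_pow_of_isPGroup φ h2 h4
  have h5 := perm_pow_two hk
  rw [← h3]
  simpa using h5

theorem Hom5.two_surj (h : Hom5 A D φ) (hA : HasAlt φ A) (hDA : D ≤ A) {N : Subgroup G} (hN : N ≤ D) (hDN : D ≤ Nm N)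
    (h2 : IsPGroup 2 N) (hNK : ¬ N ≤ H399.core A D) {v : Equiv.Perm (Fin 5)} (hv : v ∈ V4) :
    ∃ n : A, (n : G) ∈ N ∧ φ n = v := by
  obtain ⟨x, hx, hxK⟩ := SetLike.not_le_iff_exists.1 hNK
  set n : A := ⟨x, hDA (hN hx)⟩ with hn
  have h3 : φ n ≠ 1 := fun h4 => hxK ((h.ker n).2 h4)
  have h4 := h.two_mem hA hN hDN h2 (n := n) hx
  rcases mem_V4.1 hv with rfl | hv
  · exact ⟨1, N.one_mem, map_one _⟩
  · obtain ⟨τ, h0, h1, h5⟩ := v_conj_key (φ n) v (h4.resolve_left h3) hv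
    obtain ⟨d, hd, h6⟩ := h.exists_stab hA h0 h1
    refine ⟨d * n * d⁻¹, le_Nm.1 hDN d hd n hx, ?_⟩
    rw [map_mul, map_mul, map_inv, h6, h5]

theorem Hom5.map_eq_V4 (h : Hom5 A D φ) (hA : HasAlt φ A) (hDA : D ≤ A) {N : Subgroup G} (hN : N ≤ D) (hDN : D ≤ Nm N)
    (h2 : IsPGroup 2 N) (hNK : ¬ N ≤ H399.core A D) : (N.subgroupOf A).map φ = V4 := by
  refine le_antisymm ?_ ?_
  · rintro _ ⟨n, hn, rfl⟩
    exact mem_V4.2 (h.two_mem hA hN hDN h2 hn)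
  · intro v hv
    obtain ⟨n, hn, h3⟩ := h.two_surj hA hDA hN hDN h2 hNK hv
    exact ⟨n, hn, h3⟩

/-- no 2-group maps onto a group containing `A₅` -/
theorem not_hasAlt_of_two {N : Subgroup G} (h2 : IsPGroup 2 N) : ¬ HasAlt φ N := by
  intro h
  obtain ⟨n, hn, h1⟩ := h (Equiv.swap 0 1 * Equiv.swap 1 2) (by decide)
  obtain ⟨k, hk⟩ := map_pow_of_isPGroup φ h2 hn
  have h3 := perm_pow_two hk
  rw [h1] at h3
  revert h3
  decide +kernel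

end

/-! ### `{2,3}`-groups -/

theorem fitting_eq_two {X : Type*} [Group X] [Finite X] {a b : ℕ} (hcard : Nat.card X = 2 ^ a * 3 ^ b)
    (h3 : Cfsg.pCore 3 X = ⊥) : Cfsg.fittingSubgroup X = Cfsg.pCore 2 X := by
  refine le_antisymm ?_ ?_
  · rw [Lib.Cores.fittingSubgroup_eq_iSup_pCore]
    refine iSup_le fun p => ?_
    by_cases hp3 : (p : ℕ) = 3
    · rw [hp3, h3]
      exact bot_le
    by_cases hp2 : (p : ℕ) = 2
    · rw [hp2]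
    · have hp : Fact (p : ℕ).Prime := ⟨p.2⟩
      obtain ⟨n, hn⟩ := IsPGroup.iff_card.1 (Lib.Cores.pCore_isPGroup (G := X) (p : ℕ))
      rcases Nat.eq_zero_or_pos n with rfl | hn0
      · rw [pow_zero, Subgroup.card_eq_one] at hn
        rw [hn]
        exact bot_le
      · exfalso
        have h4 : (p : ℕ) ∣ Nat.card (Cfsg.pCore (p : ℕ) X) := by
          rw [hn]
          exact dvd_pow_self _ hn0.ne'
        have h5 := h4.trans (Subgroup.card_subgroup_dvd_card _)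
        rw [hcard, hp.out.dvd_mul] at h5
        rcases h5 with h5 | h5
        · exact hp2 ((Nat.prime_dvd_prime_iff_eq hp.out Nat.prime_two).1 (hp.out.dvd_of_dvd_pow h5))
        · exact hp3 ((Nat.prime_dvd_prime_iff_eq hp.out Nat.prime_three).1 (hp.out.dvd_of_dvd_pow h5))
  · have : Fact (Nat.Prime 2) := ⟨Nat.prime_two⟩
    exact Lib.Cores.pCore_le_fittingSubgroup 2

/-- `C_H(O_2(H)) ≤ O_2(H)` for a `{2,3}`-group with `O_3(H) = 1` -/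
theorem cent_Op_two [Finite G] {H : Subgroup G} (h : ∀ p, p.Prime → p ∣ Nat.card H → p = 2 ∨ p = 3) (h3 : Op 3 H = ⊥)
    {x : G} (hx : x ∈ H) (hc : ∀ y ∈ Op 2 H, y * x = x * y) : x ∈ Op 2 H := by
  obtain ⟨a, b, hab⟩ := two_three_form Nat.card_pos.ne' h
  have hs : Group.IsSolvable H := S0144.result 2 3 a b Nat.prime_two Nat.prime_three hab
  have h3 := fitting_eq_two hab (Op_eq_bot_iff.1 h3)
  have h4 := S0044.result (G := H)
  rw [h3] at h4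
  have h5 : (⟨x, hx⟩ : H) ∈ Subgroup.centralizer (Cfsg.pCore 2 H : Set H) := by
    rw [Subgroup.mem_centralizer_iff]
    intro y hy
    ext1
    exact hc y ⟨y, hy, rfl⟩
  exact ⟨⟨x, hx⟩, h4 h5, rfl⟩

end Cfsg.Agent.H209.Five
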