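import Cfsg.Agent.H209.Five.NonSolvC

/-!
# The nonsolvable case: from `NS` to `Pre`
-/

set_option autoImplicit false
set_option linter.unusedSectionVars false

open Pointwise

namespace Cfsg.Agent.H209.Five

open Cfsg.Agent.H399

variable {G : Type*} [Group G]

section

variable [Finite G] {A B : Subgroup G} {g : G}

theorem NS.symm (h : NS A B g) : NS B A g⁻¹ where
  pr := h.pr.symm
  hA := h.hB
  hB := h.hA
  gA := by rw [← h.gA, cj_inv_cj]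
  gD := by
    have := h.gD
    rw [inf_comm, ← this, cj_inv_cj, this]

/-- no nontrivial characteristic subgroup of `D` is normal in `A` -/
theorem NS.char (h : NS A B g) {C : Subgroup G} (hC : C ≤ A ⊓ B) (h1 : cj g C = C) (h2 : A ≤ Nm C) : C = ⊥ := by
  apply h.pr.U C hC h2
  rw [← h.gA, ← h1, ← cj_Nm, cj_le_cj]
  exact h2

theorem NS.hom (h : NS A B g) : ∃ φ : ↥A →* Equiv.Perm (Fin 5), Hom5 A (A ⊓ B) φ := exists_hom5 h.pr.idx

theorem NS.alt (h : NS A B g) {φ : ↥A →* Equiv.Perm (Fin 5)} (hφ : Hom5 A (A ⊓ B) φ) : HasAlt φ A := hφ.hasAlt h.hA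

theorem NS.D_le (_h : NS A B g) : A ⊓ B ≤ A := inf_le_left

theorem K_le_D (A B : Subgroup G) : H399.core A (A ⊓ B) ≤ A ⊓ B := core_le A (A ⊓ B)

theorem D_le_Nm_K (A B : Subgroup G) : A ⊓ B ≤ Nm (H399.core A (A ⊓ B)) :=
  inf_le_left.trans (le_Nm_core A (A ⊓ B))

/-- a normal `p`-subgroup of `K₁` is in `O_p(D)` -/
theorem Op_K_le_Op_D (p : ℕ) (A B : Subgroup G) : Op p (H399.core A (A ⊓ B)) ≤ Op p (A ⊓ B) :=
  le_Op ((Op_le _ _).trans (K_le_D A B)) ((D_le_Nm_K A B).trans (Nm_le_Nm_Op p _)) (isPGroup_Op _ _)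

theorem Op_K_le_Op_A (p : ℕ) (A B : Subgroup G) : Op p (H399.core A (A ⊓ B)) ≤ Op p A :=
  le_Op ((Op_le _ _).trans ((K_le_D A B).trans inf_le_left))
    ((le_Nm_core A (A ⊓ B)).trans (Nm_le_Nm_Op p _)) (isPGroup_Op _ _)

theorem Op_D_inf_K_le (p : ℕ) (A B : Subgroup G) :
    Op p (A ⊓ B) ⊓ H399.core A (A ⊓ B) ≤ Op p (H399.core A (A ⊓ B)) :=
  le_Op inf_le_right (inf_le_Nm ((K_le_D A B).trans (le_Nm_Op p _)) (self_le_Nm _))
    ((isPGroup_Op p _).to_le inf_le_left)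

theorem NS.Op_three (h : NS A B g) : Op 3 (A ⊓ B) = ⊥ := by
  obtain ⟨φ, hφ⟩ := h.hom
  have h1 : Op 3 (A ⊓ B) ≤ H399.core A (A ⊓ B) :=
    hφ.three_le (h.alt hφ) inf_le_left (Op_le _ _) (le_Nm_Op _ _) (isPGroup_Op _ _)
  have h2 : Op 3 (A ⊓ B) = Op 3 (H399.core A (A ⊓ B)) := by
    refine le_antisymm ?_ (Op_K_le_Op_D 3 A B)
    have := Op_D_inf_K_le 3 A B
    rwa [inf_of_le_left h1] at this
  apply h.char (Op_le _ _)
  · rw [cj_Op, h.gD]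
  · rw [h2]
    exact (le_Nm_core A (A ⊓ B)).trans (Nm_le_Nm_Op 3 _)

theorem NS.cent_T (h : NS A B g) {x : G} (hx : x ∈ A ⊓ B) (hc : ∀ y ∈ Op 2 (A ⊓ B), y * x = x * y) :
    x ∈ Op 2 (A ⊓ B) :=
  cent_Op_two (fun _ hp hd => h.pr.prime_dvd hp hd) h.Op_three hx hc

theorem NS.cent_K (h : NS A B g) {x : G} (hx : x ∈ H399.core A (A ⊓ B))
    (hc : ∀ y ∈ Op 2 (H399.core A (A ⊓ B)), y * x = x * y) : x ∈ Op 2 (H399.core A (A ⊓ B)) := by
  refine cent_Op_two (fun p hp hd => h.pr.prime_dvd hp (hd.trans (Subgroup.card_dvd_of_le (K_le_D A B)))) ?_ hx hc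
  have := Op_K_le_Op_D 3 A B
  rwa [h.Op_three, le_bot_iff] at this

theorem NS.D_ne (h : NS A B g) : ¬ (A ⊓ B ≤ H399.core A (A ⊓ B)) := by
  intro h1
  obtain ⟨φ, hφ⟩ := h.hom
  obtain ⟨d, hd, h2⟩ := hφ.exists_stab (h.alt hφ) (τ := v1) (by decide) (by decide)
  have h3 := (hφ.ker d).1 (h1 hd)
  rw [h2] at h3
  revert h3
  decide

theorem NS.T_not_le (h : NS A B g) : ¬ Op 2 (A ⊓ B) ≤ H399.core A (A ⊓ B) := by
  intro h1
  have h2 : Op 2 (A ⊓ B) = Op 2 (H399.core A (A ⊓ B)) := by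
    refine le_antisymm ?_ (Op_K_le_Op_D 2 A B)
    have := Op_D_inf_K_le 2 A B
    rwa [inf_of_le_left h1] at this
  have h3 : Op 2 (A ⊓ B) = ⊥ := by
    apply h.char (Op_le _ _)
    · rw [cj_Op, h.gD]
    · rw [h2]
      exact (le_Nm_core A (A ⊓ B)).trans (Nm_le_Nm_Op 2 _)
  apply h.D_ne
  intro x hx
  have h4 : x ∈ Op 2 (A ⊓ B) := h.cent_T hx (by
    intro y hy
    rw [h3, Subgroup.mem_bot] at hy
    rw [hy, one_mul, mul_one])
  rw [h3, Subgroup.mem_bot] at h4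
  rw [h4]
  exact Subgroup.one_mem _

theorem NS.QK (h : NS A B g) : Op 2 A ≤ H399.core A (A ⊓ B) := by
  by_contra h1
  obtain ⟨φ, hφ⟩ := h.hom
  exact not_hasAlt_of_two (isPGroup_Op 2 A) (hφ.normal_alt (h.alt hφ) (Op_le 2 A) (le_Nm_Op 2 A) h1)

theorem NS.QT (h : NS A B g) : Op 2 A ≤ Op 2 (A ⊓ B) :=
  le_Op (h.QK.trans (K_le_D A B)) (inf_le_left.trans (le_Nm_Op 2 A)) (isPGroup_Op 2 A)

theorem NS.TK (h : NS A B g) : Op 2 (A ⊓ B) ⊓ H399.core A (A ⊓ B) = Op 2 A :=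
  le_antisymm ((Op_D_inf_K_le 2 A B).trans (Op_K_le_Op_A 2 A B)) (le_inf h.QT h.QK)

theorem NS.Tidx (h : NS A B g) : (Op 2 A).relIndex (Op 2 (A ⊓ B)) = 4 := by
  obtain ⟨φ, hφ⟩ := h.hom
  have h1 : (Op 2 A).relIndex (Op 2 (A ⊓ B)) = (H399.core A (A ⊓ B)).relIndex (Op 2 (A ⊓ B)) := by
    rw [← h.TK, Subgroup.inf_relIndex_left]
  rw [h1, hφ.relIndex_core_eq ((Op_le 2 _).trans inf_le_left),
    hφ.map_eq_V4 (h.alt hφ) inf_le_left (Op_le 2 _) (le_Nm_Op 2 _) (isPGroup_Op 2 _) h.T_not_le, V4_card]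

theorem NS.cov (h : NS A B g) (N : Subgroup G) (hN : N ≤ A ⊓ B) (hDN : A ⊓ B ≤ Nm N) (h2 : IsPGroup 2 N)
    (hNK : ¬ N ≤ H399.core A (A ⊓ B)) : N ⊔ Op 2 A = Op 2 (A ⊓ B) := by
  obtain ⟨φ, hφ⟩ := h.hom
  have h1 : N ≤ Op 2 (A ⊓ B) := le_Op hN hDN h2
  refine le_antisymm (sup_le h1 h.QT) ?_
  intro t ht
  have htA : t ∈ A := ((Op_le 2 _).trans inf_le_left : Op 2 (A ⊓ B) ≤ A) ht
  have h3 := hφ.two_mem (h.alt hφ) (Op_le 2 _) (le_Nm_Op 2 _) (isPGroup_Op 2 _) (n := ⟨t, htA⟩) ht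
  obtain ⟨n, hn, h4⟩ := hφ.two_surj (h.alt hφ) inf_le_left hN hDN h2 hNK (mem_V4.2 h3)
  have h5 : (n : G)⁻¹ * t ∈ Op 2 A := by
    rw [← h.TK]
    refine ⟨Subgroup.mul_mem _ (Subgroup.inv_mem _ (h1 hn)) ht, ?_⟩
    have := (hφ.ker (n⁻¹ * ⟨t, htA⟩)).2 (by rw [map_mul, map_inv, h4, inv_mul_cancel])
    exact this
  have h6 : t = n * ((n : G)⁻¹ * t) := by group
  rw [h6]
  exact Subgroup.mul_mem _ (Subgroup.mem_sup_left hn) (Subgroup.mem_sup_right h5)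

theorem NS.Tsq (h : NS A B g) : ∀ t ∈ Op 2 (A ⊓ B), t * t ∈ Op 2 A := by
  intro t ht
  obtain ⟨φ, hφ⟩ := h.hom
  have htA : t ∈ A := ((Op_le 2 _).trans inf_le_left : Op 2 (A ⊓ B) ≤ A) ht
  have h3 := hφ.two_mem (h.alt hφ) (Op_le 2 _) (le_Nm_Op 2 _) (isPGroup_Op 2 _) (n := ⟨t, htA⟩) ht
  rw [← h.TK]
  refine ⟨Subgroup.mul_mem _ ht ht, ?_⟩
  have h4 : φ ⟨t, htA⟩ * φ ⟨t, htA⟩ = 1 := by
    rcases h3 with h3 | h3 | h3 | h3 <;> rw [h3] <;> decide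
  have := (hφ.ker (⟨t, htA⟩ * ⟨t, htA⟩)).2 (by rw [map_mul, h4])
  exact this

theorem NS.Lle (_h : NS A B g) : LL A B ≤ A :=
  ncl_le ((Op_le 2 _).trans inf_le_left) (self_le_Nm A)

theorem T_le_LL (A B : Subgroup G) : Op 2 (A ⊓ B) ≤ LL A B := le_ncl _ _

theorem A_le_Nm_LL (A B : Subgroup G) : A ≤ Nm (LL A B) := le_Nm_ncl _ _

theorem NS.Lalt (h : NS A B g) (φ : ↥A →* Equiv.Perm (Fin 5)) (hφ : Hom5 A (A ⊓ B) φ) : HasAlt φ (LL A B) :=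
  hφ.normal_alt (h.alt hφ) h.Lle (A_le_Nm_LL A B) fun h1 => h.T_not_le ((T_le_LL A B).trans h1)

theorem NS.Leven (h : NS A B g) (φ : ↥A →* Equiv.Perm (Fin 5)) (hφ : Hom5 A (A ⊓ B) φ) (l : A)
    (hl : (l : G) ∈ LL A B) : Equiv.Perm.sign (φ l) = 1 := by
  have h1 : LL A B ≤ ((Equiv.Perm.sign.comp φ).ker).map A.subtype := by
    apply ncl_le'
    intro a ha x hx
    rw [mem_cj] at hx
    set t : G := a⁻¹ * x * a with ht
    have htA : t ∈ A := ((Op_le 2 _).trans inf_le_left : Op 2 (A ⊓ B) ≤ A) hx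
    have h3 := hφ.two_mem (h.alt hφ) (Op_le 2 _) (le_Nm_Op 2 _) (isPGroup_Op 2 _) (n := ⟨t, htA⟩) hx
    refine ⟨⟨a, ha⟩ * ⟨t, htA⟩ * ⟨a, ha⟩⁻¹, ?_, ?_⟩
    · show Equiv.Perm.sign (φ (⟨a, ha⟩ * ⟨t, htA⟩ * ⟨a, ha⟩⁻¹)) = 1
      simp only [map_mul, map_inv]
      have h4 : Equiv.Perm.sign (φ ⟨t, htA⟩) = 1 := by
        rcases h3 with h3 | h3 | h3 | h3 <;> rw [h3] <;> decide
      rw [h4, mul_one, mul_inv_cancel]
    · show a * t * a⁻¹ = x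
      rw [ht]
      group
  obtain ⟨l', hl', h2⟩ := h1 hl
  have h3 : l' = l := Subtype.ext h2
  rw [← h3]
  exact hl'

theorem NS.LD (h : NS A B g) : A ≤ LL A B ⊔ A ⊓ B := by
  intro a ha
  obtain ⟨φ, hφ⟩ := h.hom
  obtain ⟨l, hl, -, c, hc, -, rfl⟩ := hφ.le_sup (h.Lalt φ hφ) ha
  exact Subgroup.mul_mem _ (Subgroup.mem_sup_left hl) (Subgroup.mem_sup_right hc)

/-- `{l ∈ A : [k, l] ∈ Q for all k ∈ K}` -/
def commSub (A K Q : Subgroup G) (hQ : A ≤ Nm Q) : Subgroup G where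
  carrier := {l | l ∈ A ∧ ∀ k ∈ K, k * l * k⁻¹ * l⁻¹ ∈ Q}
  one_mem' := ⟨A.one_mem, fun k _ => by simp⟩
  mul_mem' := by
    rintro l m ⟨hl, h1⟩ ⟨hm, h2⟩
    refine ⟨A.mul_mem hl hm, fun k hk => ?_⟩
    have h3 := Q.mul_mem (h1 k hk) (le_Nm.1 hQ l hl _ (h2 k hk))
    have h4 : k * l * k⁻¹ * l⁻¹ * (l * (k * m * k⁻¹ * m⁻¹) * l⁻¹) = k * (l * m) * k⁻¹ * (l * m)⁻¹ := by group
    rwa [h4] at h3
  inv_mem' := by
    rintro l ⟨hl, h1⟩
    refine ⟨A.inv_mem hl, fun k hk => ?_⟩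
    have h3 := le_Nm.1 hQ l⁻¹ (A.inv_mem hl) _ (Q.inv_mem (h1 k hk))
    have h4 : l⁻¹ * (k * l * k⁻¹ * l⁻¹)⁻¹ * l⁻¹⁻¹ = k * l⁻¹ * k⁻¹ * l⁻¹⁻¹ := by group
    rwa [h4] at h3

theorem mem_commSub {A K Q : Subgroup G} {hQ : A ≤ Nm Q} {l : G} :
    l ∈ commSub A K Q hQ ↔ l ∈ A ∧ ∀ k ∈ K, k * l * k⁻¹ * l⁻¹ ∈ Q := Iff.rfl

theorem NS.comm (h : NS A B g) : ∀ k ∈ H399.core A (A ⊓ B), ∀ l ∈ LL A B, k * l * k⁻¹ * l⁻¹ ∈ Op 2 A := by
  have h1 : LL A B ≤ commSub A (H399.core A (A ⊓ B)) (Op 2 A) (le_Nm_Op 2 A) := by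
    apply ncl_le'
    intro a ha x hx
    rw [mem_cj] at hx
    have hTA : Op 2 (A ⊓ B) ≤ A := (Op_le 2 _).trans inf_le_left
    rw [mem_commSub]
    constructor
    · have := A.mul_mem (A.mul_mem ha (hTA hx)) (A.inv_mem ha)
      have e : a * (a⁻¹ * x * a) * a⁻¹ = x := by group
      rwa [e] at this
    · intro k hk
      set t := a⁻¹ * x * a with ht
      have hk' : a⁻¹ * k * a ∈ H399.core A (A ⊓ B) := by
        have := le_Nm.1 (le_Nm_core A (A ⊓ B)) a⁻¹ (A.inv_mem ha) k hk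
        rwa [inv_inv] at this
      set k' := a⁻¹ * k * a with hk'
      have h3 : k' * t * k'⁻¹ * t⁻¹ ∈ Op 2 A := by
        rw [← h.TK]
        refine ⟨Subgroup.mul_mem _ ?_ (Subgroup.inv_mem _ hx), ?_⟩
        · exact le_Nm.1 (le_Nm_Op 2 (A ⊓ B)) k' (K_le_D A B (by assumption)) t hx
        · have h4 : k' * t * k'⁻¹ * t⁻¹ = k' * (t * k'⁻¹ * t⁻¹) := by group
          rw [h4]
          refine Subgroup.mul_mem _ (by assumption) ?_
          exact le_Nm.1 (le_Nm_core A (A ⊓ B)) t (hTA hx) _ (Subgroup.inv_mem _ (by assumption))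
      have h5 := le_Nm.1 (le_Nm_Op 2 A) a ha _ h3
      have e : a * (k' * t * k'⁻¹ * t⁻¹) * a⁻¹ = k * x * k⁻¹ * x⁻¹ := by
        rw [ht, hk']
        group
      rwa [e] at h5
  intro k hk l hl
  exact (mem_commSub.1 (h1 hl)).2 k hk

/-- `K₁ ⊓ K₂` together with `Q₁` is normal in `A` -/
theorem NS.le_Nm_of_le_K (h : NS A B g) {N : Subgroup G} (hN : N ≤ H399.core A (A ⊓ B)) (hD : A ⊓ B ≤ Nm N) :
    A ≤ Nm (N ⊔ Op 2 A) := by
  refine h.LD.trans (sup_le ?_ (sup_le_Nm hD (inf_le_left.trans (le_Nm_Op 2 A))))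
  rw [le_Nm']
  intro l hl
  have hlA := h.Lle hl
  have key : ∀ l ∈ LL A B, cj l (N ⊔ Op 2 A) ≤ N ⊔ Op 2 A := by
    intro l hl
    rw [cj_sup, cj_of_mem_Nm (le_Nm_Op 2 A (h.Lle hl))]
    refine sup_le ?_ le_sup_right
    intro x hx
    rw [mem_cj] at hx
    have h1 := h.comm _ (hN hx) l hl
    have h2 := Subgroup.mul_mem _ (Subgroup.mem_sup_left hx : _ ∈ N ⊔ Op 2 A) (Subgroup.mem_sup_right
      (Subgroup.inv_mem _ (le_Nm.1 (le_Nm_Op 2 A) (l⁻¹ * x * l)⁻¹ (A.inv_mem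
        (((K_le_D A B).trans inf_le_left) (hN hx))) _ h1)) : _ ∈ N ⊔ Op 2 A)
    have e : (l⁻¹ * x * l) * ((l⁻¹ * x * l)⁻¹ * (l⁻¹ * x * l * l * (l⁻¹ * x * l)⁻¹ * l⁻¹) * (l⁻¹ * x * l)⁻¹⁻¹)⁻¹ = x := by
      group
    rw [e] at h2
    exact h2
  refine le_antisymm (key l hl) ?_
  have h1 := key l⁻¹ (Subgroup.inv_mem _ hl)
  rw [cj_le_iff, inv_inv] at h1
  exact h1

/-- `K₁ ∩ K₂ = Q₁ ∩ Q₂` -/
theorem NS.cores (h : NS A B g) :
    H399.core A (A ⊓ B) ⊓ H399.core B (B ⊓ A) = Op 2 A ⊓ Op 2 B := by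
  have h' := h.symm
  refine le_antisymm ?_ (inf_le_inf h.QK h'.QK)
  set N := H399.core A (A ⊓ B) ⊓ H399.core B (B ⊓ A) with hN
  have hND : A ⊓ B ≤ Nm N := inf_le_Nm (D_le_Nm_K A B) (by rw [inf_comm]; exact D_le_Nm_K B A)
  have hNA : N ≤ A ⊓ B := inf_le_left.trans (K_le_D A B)
  -- odd order elements of `N Q` are in `N`
  have key : ∀ {Q : Subgroup G}, Q ≤ A ⊓ B → A ⊓ B ≤ Nm Q → IsPGroup 2 Q → ∀ x ∈ N ⊔ Q, Odd (orderOf x) → x ∈ N := by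
    intro Q hQ hDQ h2 x hx ho
    have h3 : ∃ k : ℕ, x ^ 2 ^ k ∈ N := by
      have h4 : N ⊔ Q ≤ Nm N := sup_le (self_le_Nm N) (hQ.trans hND)
      obtain ⟨n, hn, q, hq, rfl⟩ := (mul_mem_sup_iff (hNA.trans hDQ)).1 hx
      obtain ⟨k, hk⟩ := h2 ⟨q, hq⟩
      refine ⟨k, ?_⟩
      have h5 : ∀ j : ℕ, (n * q) ^ j * (q ^ j)⁻¹ ∈ N := by
        intro j
        induction j with
        | zero => simp
        | succ j ih =>
          have h6 : (n * q) ^ (j + 1) * (q ^ (j + 1))⁻¹ = (n * q) ^ j * (q ^ j)⁻¹ * (q ^ j * n * (q ^ j)⁻¹) := by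
            rw [pow_succ, pow_succ]
            group
          rw [h6]
          exact N.mul_mem ih (le_Nm.1 hND _ (Subgroup.pow_mem _ (hQ hq) j) n hn)
      have h7 := h5 (2 ^ k)
      have h8 : q ^ 2 ^ k = 1 := by
        have h9 := congrArg Subtype.val hk
        simpa using h9
      rwa [h8, inv_one, mul_one] at h7
    obtain ⟨k, hk⟩ := h3
    refine mem_of_pow_mem (m := orderOf x) (n := 2 ^ k) ?_ (pow_orderOf_eq_one x) hk
    exact Nat.Coprime.pow_right k (Nat.coprime_two_right.2 ho)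
  have h2 : ∀ x ∈ N, Odd (orderOf x) → x = 1 := by
    have hcl : Subgroup.closure {x | x ∈ N ∧ Odd (orderOf x)} = ⊥ := by
      have hle : Subgroup.closure {x | x ∈ N ∧ Odd (orderOf x)} ≤ N := by
        rw [Subgroup.closure_le]
        exact fun x hx => hx.1
      have hnm : ∀ {E Q : Subgroup G}, E ≤ Nm (N ⊔ Q) → Q ≤ A ⊓ B → A ⊓ B ≤ Nm Q → IsPGroup 2 Q →
          E ≤ Nm (Subgroup.closure {x | x ∈ N ∧ Odd (orderOf x)}) := by
        intro E Q hE hQ hDQ hQ2 a ha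
        have hstep : ∀ a ∈ E, ∀ x, x ∈ N ∧ Odd (orderOf x) → a * x * a⁻¹ ∈ N ∧ Odd (orderOf (a * x * a⁻¹)) := by
          intro a ha x hx
          have ho := odd_conj a x hx.2
          exact ⟨key hQ hDQ hQ2 _ (le_Nm.1 hE a ha x (Subgroup.mem_sup_left hx.1)) ho, ho⟩
        refine mem_Nm.2 ?_
        rw [cj_eq_map, MonoidHom.map_closure]
        congr 1
        ext y
        constructor
        · rintro ⟨x, hx, rfl⟩
          exact hstep a ha x hx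
        · intro hy
          refine ⟨a⁻¹ * y * a, ?_, ?_⟩
          · have := hstep a⁻¹ (E.inv_mem ha) y hy
            rwa [inv_inv] at this
          · simp [mul_assoc]
      apply h.pr.U _ (hle.trans hNA)
      · exact hnm (h.le_Nm_of_le_K inf_le_left hND) (h.QK.trans (K_le_D A B))
          (inf_le_left.trans (le_Nm_Op 2 A)) (isPGroup_Op 2 A)
      · exact hnm (h'.le_Nm_of_le_K inf_le_right (by rw [inf_comm]; exact hND))
          (h'.QK.trans ((K_le_D B A).trans (le_of_eq (inf_comm _ _)))) (inf_le_right.trans (le_Nm_Op 2 B))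
          (isPGroup_Op 2 B)
    intro x hx ho
    have h3 : x ∈ Subgroup.closure {x | x ∈ N ∧ Odd (orderOf x)} := Subgroup.subset_closure ⟨hx, ho⟩
    rwa [hcl, Subgroup.mem_bot] at h3
  have h3 : IsPGroup 2 N := by
    intro x
    obtain ⟨k, m, hm, hk⟩ := Nat.exists_eq_two_pow_mul_odd (n := orderOf x) (orderOf_pos x).ne'
    refine ⟨k, ?_⟩
    ext1
    apply h2 _ (x ^ 2 ^ k).2
    rw [Subgroup.orderOf_coe, orderOf_pow_of_dvd (by positivity) (by rw [hk]; exact dvd_mul_right _ _), hk,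
      Nat.mul_div_cancel_left _ (by positivity)]
    exact hm
  have h4 : N ≤ Op 2 (A ⊓ B) := le_Op hNA hND h3
  refine le_inf ?_ ?_
  · rw [← h.TK]
    exact le_inf h4 inf_le_left
  · rw [← h'.TK]
    refine le_inf ?_ inf_le_right
    rwa [inf_comm B A]

/-- `C_A(Q₁)` -/
theorem NS.pre (h : NS A B g)
    (hc : A ⊓ Subgroup.centralizer (Op 2 A : Set G) ≤ H399.core A (A ⊓ B)) : Pre A B g where
  toNS := h
  QT := h.QT
  QK := h.QK
  TK := h.TK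
  Tidx := h.Tidx
  cov := h.cov
  Tsq := h.Tsq
  Lle := h.Lle
  Lalt := h.Lalt
  Leven := h.Leven
  LD := h.LD
  comm := h.comm
  cores := h.cores
  cent := by
    intro x hx hxc
    have h1 : x ∈ H399.core A (A ⊓ B) := hc ⟨hx, Subgroup.mem_centralizer_iff.2 hxc⟩
    have h2 := h.cent_K h1 (fun y hy => hxc y (Op_K_le_Op_A 2 A B hy))
    exact Op_K_le_Op_A 2 A B h2
  char := fun _ hC h1 h2 => h.char hC h1 h2

/-- transport of `C_B(Q₂) ≤ K₂` to `A` -/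
theorem NS.cent_of (h : NS A B g) (h1 : B ⊓ Subgroup.centralizer (Op 2 B : Set G) ≤ H399.core B (B ⊓ A)) :
    A ⊓ Subgroup.centralizer (Op 2 A : Set G) ≤ H399.core A (A ⊓ B) := by
  have hgK : cj g (H399.core A (A ⊓ B)) = H399.core B (B ⊓ A) := by
    rw [cj_core, h.gA, h.gD, inf_comm]
  intro x hx
  have h2 : g * x * g⁻¹ ∈ B ⊓ Subgroup.centralizer (Op 2 B : Set G) := by
    refine ⟨?_, ?_⟩
    · rw [← h.gA]
      exact conj_mem_cj.2 hx.1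
    · rw [← h.gA, ← cj_Op]
      show g * x * g⁻¹ ∈ Subgroup.centralizer (cj g (Op 2 A) : Set G)
      rw [Subgroup.mem_centralizer_iff]
      intro y hy
      have h3 : g⁻¹ * y * g ∈ Op 2 A := mem_cj.1 hy
      have h4 := Subgroup.mem_centralizer_iff.1 hx.2 _ h3
      have h5 := congrArg (fun z => g * z * g⁻¹) h4
      have e1 : g * (g⁻¹ * y * g * x) * g⁻¹ = y * (g * x * g⁻¹) := by group
      have e2 : g * (x * (g⁻¹ * y * g)) * g⁻¹ = g * x * g⁻¹ * y := by group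
      rw [e1, e2] at h5
      exact h5
  have h3 := h1 h2
  rw [← hgK] at h3
  exact conj_mem_cj.1 h3

theorem NS.case_one (h : NS A B g)
    (hc : ¬ A ⊓ Subgroup.centralizer (Op 2 A : Set G) ≤ H399.core A (A ⊓ B)) :
    H399.core A (A ⊓ B) ⊓ H399.core B (B ⊓ A) = ⊥ := by
  have key : ∀ {A B : Subgroup G} {g : G}, NS A B g →
      ¬ A ⊓ Subgroup.centralizer (Op 2 A : Set G) ≤ H399.core A (A ⊓ B) → A ≤ Nm (Op 2 A ⊓ Op 2 B) := by
    intro A B g h hc a ha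
    obtain ⟨φ, hφ⟩ := h.hom
    have hn : A ≤ Nm (A ⊓ Subgroup.centralizer (Op 2 A : Set G)) := by
      apply inf_le_Nm (self_le_Nm A)
      rw [le_Nm]
      intro a ha c hc
      rw [Subgroup.mem_centralizer_iff] at hc ⊢
      intro q hq
      have h1 := hc (a⁻¹ * q * a) (by
        have := le_Nm.1 (le_Nm_Op 2 A) a⁻¹ (A.inv_mem ha) q hq
        rwa [inv_inv] at this)
      have h2 := congrArg (fun z => a * z * a⁻¹) h1
      simp only [mul_assoc] at h2 ⊢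
      simpa [mul_assoc] using h2
    have h1 := hφ.normal_alt (h.alt hφ) inf_le_left hn hc
    obtain ⟨l, hl, -, c, hcD, -, rfl⟩ := hφ.le_sup h1 ha
    refine Subgroup.mul_mem _ ?_ ?_
    · have h2 := Subgroup.mem_centralizer_iff.1 hl.2
      rw [mem_Nm]
      ext x
      rw [mem_cj]
      have h3 : ∀ x ∈ Op 2 A, l⁻¹ * x * l = x := by
        intro x hx
        rw [mul_assoc, h2 x hx, inv_mul_cancel_left]
      constructor
      · intro hx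
        have h4 : l * (l⁻¹ * x * l) * l⁻¹ = l⁻¹ * x * l := by
          rw [← h2 _ hx.1, mul_inv_cancel_right]
        have h5 : l * (l⁻¹ * x * l) * l⁻¹ = x := by group
        rw [← h5, h4]
        exact hx
      · intro hx
        rw [h3 x hx.1]
        exact hx
    · exact inf_le_Nm (inf_le_left.trans (le_Nm_Op 2 A)) (inf_le_right.trans (le_Nm_Op 2 B)) hcD
  rw [h.cores]
  have hc' : ¬ B ⊓ Subgroup.centralizer (Op 2 B : Set G) ≤ H399.core B (B ⊓ A) := fun h1 => hc (h.cent_of h1)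
  apply h.pr.U
  · exact inf_le_inf (Op_le 2 A) (Op_le 2 B)
  · exact key h hc
  · have := key h.symm hc'
    rwa [inf_comm] at this

end

end Cfsg.Agent.H209.Five
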