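import Cfsg.Agent.H399.Setup
import Cfsg.Agent.H209.Five.Defs

/-!
# Primitive groups with a suborbit of length 5: reduction to two subgroups `A`, `B`
-/

set_option autoImplicit false
set_option linter.unusedSectionVars false

open Pointwise

namespace Cfsg.Agent.H209.Five

open Cfsg.Agent.H399

variable {G : Type*} [Group G]

/-- Two point stabilisers `A`, `B` in a primitive group with `|A : A ∩ B| = 5`. -/
structure Pr5 (A B : Subgroup G) : Prop where
  max : IsCoatom A
  core : ∀ X : Subgroup G, (∀ x, X ≤ cj x A) → X = ⊥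
  conj : ∃ g, cj g A = B
  idx : (A ⊓ B).relIndex A = 5

section

variable [Finite G] {A B : Subgroup G}

theorem Pr5.card_eq (h : Pr5 A B) : Nat.card B = Nat.card A := by
  obtain ⟨g, hg⟩ := h.conj
  rw [← hg, card_cj]

theorem Pr5.symm (h : Pr5 A B) : Pr5 B A where
  max := by
    obtain ⟨g, hg⟩ := h.conj
    rw [← hg]
    exact isCoatom_cj h.max g
  core := by
    intro X hX
    apply h.core
    obtain ⟨g, hg⟩ := h.conj
    intro x
    have := hX (x * g⁻¹)
    rwa [← hg, ← cj_mul, inv_mul_cancel_right] at this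
  conj := by
    obtain ⟨g, hg⟩ := h.conj
    exact ⟨g⁻¹, by rw [← hg, cj_inv_cj]⟩
  idx := by
    have h1 := card_mul_relIndex (inf_le_left : A ⊓ B ≤ A)
    have h2 := card_mul_relIndex (inf_le_left : B ⊓ A ≤ B)
    rw [h.idx] at h1
    rw [h.card_eq, inf_comm, ← h1] at h2
    have h3 : 0 < Nat.card ↥(A ⊓ B) := Nat.card_pos
    rw [inf_comm]
    exact Nat.eq_of_mul_eq_mul_left h3 h2

theorem Pr5.card_A (h : Pr5 A B) : Nat.card A = 5 * Nat.card ↥(A ⊓ B) := by
  have h1 := card_mul_relIndex (inf_le_left : A ⊓ B ≤ A)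
  rw [h.idx] at h1
  omega

theorem Pr5.card_B (h : Pr5 A B) : Nat.card B = 5 * Nat.card ↥(A ⊓ B) := by
  rw [h.card_eq, h.card_A]

theorem Pr5.eq_bot_of_normal (h : Pr5 A B) {X : Subgroup G} (hX : X ≤ A) (hN : ∀ x, cj x X = X) : X = ⊥ := by
  apply h.core
  intro x
  rw [← hN x, cj_le_cj]
  exact hX

theorem Pr5.eq_bot_of_top (h : Pr5 A B) {X : Subgroup G} (hX : X ≤ A) (hN : Nm X = ⊤) : X = ⊥ :=
  h.eq_bot_of_normal hX fun x => cj_of_mem_Nm (by rw [hN]; exact Subgroup.mem_top x)

theorem Pr5.top_of (h : Pr5 A B) {M : Subgroup G} (h1 : A ≤ M) (h2 : ¬ M ≤ A) : M = ⊤ :=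
  h.max.2 M (lt_of_le_not_ge h1 h2)

theorem Pr5.Nm_eq (h : Pr5 A B) {X : Subgroup G} (hX : X ≤ A) (h0 : X ≠ ⊥) (hA : A ≤ Nm X) : Nm X = A := by
  by_contra hcon
  apply h0
  apply h.eq_bot_of_top hX
  apply h.top_of hA
  intro h1
  exact hcon (le_antisymm h1 hA)

theorem Pr5.not_le (h : Pr5 A B) : ¬ A ≤ B := by
  intro h1
  have := h.idx
  rw [inf_of_le_left h1, Subgroup.relIndex_self] at this
  omega

theorem Pr5.gen (h : Pr5 A B) : A ⊔ B = ⊤ := by
  apply h.top_of le_sup_left
  intro h1
  exact h.symm.not_le (le_sup_right.trans h1)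

theorem Pr5.U (h : Pr5 A B) : ∀ X ≤ A ⊓ B, A ≤ Nm X → B ≤ Nm X → X = ⊥ := by
  intro X hX h1 h2
  apply h.eq_bot_of_top (hX.trans inf_le_left)
  rw [eq_top_iff, ← h.gen]
  exact sup_le h1 h2

theorem cj_of_normal {H : Subgroup G} (hn : H.Normal) (x : G) : cj x H = H :=
  cj_of_mem_Nm (by
    have h1 : Subgroup.normalizer (H : Set G) = ⊤ := Subgroup.normalizer_eq_top_iff.2 hn
    have h2 : x ∈ Subgroup.normalizer (H : Set G) := by
      rw [h1]
      exact Subgroup.mem_top x
    exact h2)

theorem Pr5.normalCore (h : Pr5 A B) : A.normalCore = ⊥ := by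
  apply h.eq_bot_of_normal A.normalCore_le
  intro x
  have := Subgroup.normalCore_normal A
  exact cj_of_normal this x

/-- No index 2 subgroup contains `A`. -/
theorem Pr5.not_le_index_two (h : Pr5 A B) {H : Subgroup G} (hH : H.index = 2) : ¬ A ≤ H := by
  intro h1
  have hn : H.Normal := Subgroup.normal_of_index_eq_two hH
  by_cases h2 : H ≤ A
  · have h3 : H = A := le_antisymm h2 h1
    have h4 : A = ⊥ := h.eq_bot_of_normal le_rfl fun x => by rw [← h3]; exact cj_of_normal hn x
    have h5 := h.idx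
    rw [h4] at h5
    simp at h5
  · have h3 := h.top_of h1 h2
    rw [h3, Subgroup.index_top] at hH
    omega

end

/-- A primitive group with a suborbit of length 5 gives the configuration. -/
theorem pr5_of_primitive {G Ω : Type*} [Group G] [Finite G] [MulAction G Ω] [FaithfulSMul G Ω] [Finite Ω]
    (hprim : MulAction.IsPreprimitive G Ω) (a b : Ω)
    (h4 : Nat.card (MulAction.orbit (MulAction.stabilizer G a) b) = 5) :
    Pr5 (MulAction.stabilizer G a) (MulAction.stabilizer G b) := by
  have hnt : Nontrivial Ω := by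
    by_contra hcon
    rw [not_nontrivial_iff_subsingleton] at hcon
    have : Subsingleton (MulAction.orbit (MulAction.stabilizer G a) b) := inferInstance
    have h5 := Finite.card_le_one_iff_subsingleton.2 this
    omega
  have hconj : ∀ x : G, cj x (MulAction.stabilizer G a) = MulAction.stabilizer G (x • a) := by
    intro x
    rw [MulAction.stabilizer_smul_eq_stabilizer_map_conj]
    rfl
  constructor
  · exact (MulAction.isCoatom_stabilizer_iff_preprimitive G a).2 hprim
  · intro X hX
    rw [eq_bot_iff]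
    intro y hy
    rw [Subgroup.mem_bot]
    apply FaithfulSMul.eq_of_smul_eq_smul (M := G) (α := Ω)
    intro c
    obtain ⟨x, rfl⟩ := MulAction.exists_smul_eq G a c
    have := hX x hy
    rw [hconj, MulAction.mem_stabilizer_iff] at this
    rw [this, one_smul]
  · obtain ⟨g, hg⟩ := MulAction.exists_smul_eq G a b
    exact ⟨g, by rw [hconj, hg]⟩
  · rw [inf_comm, Subgroup.inf_relIndex_right, ← h4]
    have h5 := MulAction.index_stabilizer (MulAction.stabilizer G a) b
    have h6 : MulAction.stabilizer (MulAction.stabilizer G a) b =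
        (MulAction.stabilizer G b).subgroupOf (MulAction.stabilizer G a) := by
      ext x
      rfl
    rw [h6] at h5
    rw [Subgroup.relIndex, h5]
    rfl

end Cfsg.Agent.H209.Five
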